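import Groth.Agent.L25.Dyn.Grading
import Groth.Agent.L25.Observable.Translate
import Groth.Agent.L25.GeomIrred
import Groth.Agent.L08.Flag
import Groth.Agent.L08.Pullback
import Groth.Agent.L01.Unip.SepTrig
import Groth.Agent.S3266
import Groth.Agent.S7967
import Groth.Agent.S4128
import Mathlib.RingTheory.HopfAlgebra.Quotient

/-!
# Products of two subgroups with open product in a connected solvable group
-/

set_option autoImplicit false

universe u

open TensorProduct WithConv Groth.L08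

noncomputable section

namespace Groth.L20.SolvCell

open Groth.L25.Dyn (Pt pmap pmap_apply inv_apply)
open Groth.L25.Observable (Rt apply_Rt)

variable {K : Type u} [Field K] {A : Type u} [CommRing A] [HopfAlgebra K A]

/-- the functions not identically zero on a set of points -/
def NZ (N : Set (Pt (k := K) A K)) (f : A) : Prop := ∃ x ∈ N, x.ofConv f ≠ 0

theorem Rt_eq_fAct (s : A →ₐ[K] K) (a : A) : Rt s a = fAct A s.toLinearMap a := rfl

/-- points killing a Hopf ideal with unipotent quotient have a common fixed vector modulo the functions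
vanishing on a set of points -/
theorem exists_fixed_mod (J : Ideal A) [J.IsHopfIdeal K] (hU : HopfRep.IsUnipotent K (A ⧸ J))
    (N : Set (Pt (k := K) A K)) (S : Set (Pt (k := K) A K)) (hS : ∀ s ∈ S, ∀ a ∈ J, s.ofConv a = 0)
    (W : Submodule K A) (hW : ∀ s ∈ S, ∀ f ∈ W, Rt s.ofConv f ∈ W) (hne : ∃ w ∈ W, NZ N w) :
    ∃ v ∈ W, NZ N v ∧ ∀ x ∈ N, ∀ s ∈ S, (x * s).ofConv v = x.ofConv v := by
  classical
  obtain ⟨w, hw, hwN⟩ := hne
  obtain ⟨C, h1, h2, h3⟩ := exists_finite_subcomod (k := K) (A := A) w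
  let q : A →ₐc[K] A ⧸ J := Bialgebra.Quotient.mkBialgHom J
  letI cC : HopfRep.Comod K A C := ComodSub.Comod.restr (HopfRep.Comod.regular K A) C h3
  letI cJ : HopfRep.Comod K (A ⧸ J) C := push (q : A →ₗc[K] A ⧸ J) cC
  obtain ⟨F, -, h0, htop, -, hs⟩ := exists_flag_of_isUnipotent hU C
  have hex : ∃ i, ∃ v : C, v ∈ F i ∧ (v : A) ∈ W ∧ NZ N (v : A) :=
    ⟨Module.finrank K C, ⟨w, h2⟩, by rw [htop]; trivial, hw, hwN⟩
  obtain ⟨i, ⟨v, hv, hvW, hvN⟩, hmin⟩ : ∃ i, (∃ v : C, v ∈ F i ∧ (v : A) ∈ W ∧ NZ N (v : A)) ∧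
      ∀ j < i, ¬ ∃ v : C, v ∈ F j ∧ (v : A) ∈ W ∧ NZ N (v : A) :=
    ⟨Nat.find hex, Nat.find_spec hex, fun j hj => Nat.find_min hex hj⟩
  rcases i with _ | j
  · rw [h0, Submodule.mem_bot] at hv
    obtain ⟨x, -, hx⟩ := hvN
    rw [hv] at hx
    simp at hx
  refine ⟨v, hvW, hvN, fun x hx s hs' => ?_⟩
  obtain ⟨g, rfl, hst⟩ := hs j
  let sb : A ⧸ J →ₐ[K] K := Ideal.Quotient.liftₐ J s.ofConv (hS s hs')
  have hmem := hst v hv sb.toLinearMap
  have hsb : sb.toLinearMap ∘ₗ (q : A →ₗc[K] A ⧸ J).toLinearMap = s.ofConv.toLinearMap := rfl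
  rw [show sb.toLinearMap 1 = 1 from map_one sb, one_smul, fAct_push, hsb] at hmem
  have hval : ((@fAct K _ A _ _ _ C _ _ cC s.ofConv.toLinearMap v : C) : A) = Rt s.ofConv (v : A) := by
    rw [Rt_eq_fAct]
    exact fAct_comm_of_isComodHom (ComodSub.isComodHom_subtype _ C h3) _ v
  set d : C := @fAct K _ A _ _ _ C _ _ cC s.ofConv.toLinearMap v - v
  have hd : (d : A) = Rt s.ofConv (v : A) - (v : A) := by
    rw [← hval]; rfl
  have hdW : (d : A) ∈ W := by
    rw [hd]; exact sub_mem (hW s hs' _ hvW) hvW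
  have hdN : ¬ NZ N (d : A) := fun h => hmin j (Nat.lt_succ_self j) ⟨d, hmem, hdW, h⟩
  by_contra hne'
  refine hdN ⟨x, hx, ?_⟩
  rw [hd, map_sub, apply_Rt, sub_ne_zero]
  exact hne'

/-- restriction of points along a bialgebra map -/
def resB {B : Type u} [CommRing B] [HopfAlgebra K B] (ψ : B →ₐc[K] A) {D : Type u} [CommRing D] [Algebra K D] :
    Pt (k := K) A D →* Pt (k := K) B D where
  toFun x := toConv (x.ofConv.comp (ψ : B →ₐ[K] A))
  map_one' := WithConv.ext (AlgHom.ext fun b => by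
    show algebraMap K D (Coalgebra.counit (R := K) (ψ b)) = algebraMap K D (Coalgebra.counit (R := K) b)
    rw [CoalgHomClass.counit_comp_apply])
  map_mul' x y := WithConv.ext (AlgHom.ext fun b => by
    show (x * y).ofConv (ψ b) = Algebra.TensorProduct.lmul' K
      (Algebra.TensorProduct.map (x.ofConv.comp (ψ : B →ₐ[K] A)) (y.ofConv.comp (ψ : B →ₐ[K] A))
        (Coalgebra.comul (R := K) b))
    rw [AlgHom.convMul_apply, ← CoalgHomClass.map_comp_comul_apply ψ b]
    generalize Coalgebra.comul (R := K) b = z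
    induction z using TensorProduct.induction_on with
    | zero => simp
    | add p q hp hq => simp only [map_add, hp, hq]
    | tmul p q => simp)

theorem resB_apply {B : Type u} [CommRing B] [HopfAlgebra K B] (ψ : B →ₐc[K] A) {D : Type u} [CommRing D]
    [Algebra K D] (x : Pt (k := K) A D) (b : B) : (resB ψ x).ofConv b = x.ofConv (ψ b) := rfl

/-- Over an algebraically closed field, in a connected solvable group a subgroup on which all
characters are trivial times another subgroup is everything as soon as the product is open. -/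
theorem exists_mul_eq [IsAlgClosed K] [Algebra.FiniteType K A] [IsDomain A]
    [Group.IsSolvable (Pt (k := K) A K)] (S₁ S₂ : Subgroup (Pt (k := K) A K))
    (h1 : ∀ s ∈ S₁, ∀ g, IsGroupLikeElem K g → s.ofConv g = 1) (E : Ideal A)
    (hE : ∀ x, (∃ a ∈ S₁, ∃ b ∈ S₂, a * b = x) ↔ ∃ e ∈ E, x.ofConv e ≠ 0) (x : Pt (k := K) A K) :
    ∃ a ∈ S₁, ∃ b ∈ S₂, a * b = x := by
  haveI : _root_.IsReduced A := inferInstance
  have hsep : ∀ f : A, (∀ y : Pt (k := K) A K, y.ofConv f = 0) → f = 0 := fun f h =>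
    Groth.L25.GeomIrred.eq_zero_of_forall_algHom (k := K) f fun φ => h (toConv φ)
  have hidem : ∀ e : A, IsIdempotentElem e → e = 0 ∨ e = 1 := fun e he => IsIdempotentElem.iff_eq_zero_or_one.1 he
  have htrig := Groth.Agent.S3266.result K A hidem
  obtain ⟨B, _, _, ψ, J, _, hψ, hB, hJ, hU⟩ := (Groth.Agent.S7967.result K A).1 htrig
  haveI : Algebra.FiniteType K A := inferInstance
  obtain ⟨r, hr⟩ := Groth.Agent.S4128.result K A B (Groth.L01.SepTrig.isDiag_of_isDiagonalizable hB) ψ hψ J hJ hU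
  let N : Subgroup (Pt (k := K) A K) := (resB ψ).ker
  have hNJ : ∀ y ∈ N, ∀ a ∈ J, y.ofConv a = 0 := by
    intro y hy a ha
    rw [hJ] at ha
    refine (Ideal.map_le_iff_le_comap.2 (fun b hb => ?_) : _ ≤ RingHom.ker y.ofConv) ha
    show y.ofConv (ψ b) = 0
    rw [← resB_apply, MonoidHom.mem_ker.1 hy]
    show algebraMap K K (Coalgebra.counit (R := K) b) = 0
    rw [show Coalgebra.counit (R := K) b = 0 from hb, map_zero]
  have hS₁N : S₁ ≤ N := by
    intro s hs
    refine MonoidHom.mem_ker.2 (WithConv.ext (AlgHom.ext fun b => ?_))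
    show s.ofConv (ψ b) = algebraMap K K (Coalgebra.counit (R := K) b)
    have hb : b ∈ Submodule.span K {g : B | IsGroupLikeElem K g} := hB ▸ Submodule.mem_top
    induction hb using Submodule.span_induction with
    | mem g hg => rw [h1 s hs _ (hg.map ψ), hg.counit_eq_one, map_one]
    | zero => simp
    | add p q _ _ hp hq => simp only [map_add, hp, hq]
    | smul c p _ hp => simp only [map_smul, hp, smul_eq_mul, map_mul, Algebra.algebraMap_self, RingHom.id_apply]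
  -- the projection onto the kernel
  let φ : A →ₐ[K] A := (toConv (AlgHom.id K A) * (resB r (resB ψ (toConv (AlgHom.id K A))))⁻¹).ofConv
  have hφ : ∀ (y : Pt (k := K) A K) (f : A), y.ofConv (φ f) = (y * (resB r (resB ψ y))⁻¹).ofConv f := by
    intro y f
    show (pmap y.ofConv (toConv (AlgHom.id K A) * (resB r (resB ψ (toConv (AlgHom.id K A))))⁻¹)).ofConv f = _
    rw [map_mul, map_inv]
    rfl
  have hrψ : ∀ z : Pt (k := K) B K, resB ψ (resB r z) = z := fun z =>
    WithConv.ext (AlgHom.ext fun b => congrArg z.ofConv (DFunLike.congr_fun hr b))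
  have hmemN : ∀ y : Pt (k := K) A K, y * (resB r (resB ψ y))⁻¹ ∈ N := fun y => by
    refine MonoidHom.mem_ker.2 ?_
    rw [map_mul, map_inv, hrψ, mul_inv_cancel]
  have hNZ : ∀ f : A, NZ (N : Set (Pt (k := K) A K)) f ↔ φ f ≠ 0 := by
    intro f
    constructor
    · rintro ⟨y, hy, hyf⟩ h
      have e := hφ y f
      rw [h, map_zero, MonoidHom.mem_ker.1 hy, map_one, inv_one, _root_.mul_one] at e
      exact hyf e.symm
    · intro h
      by_contra h'
      refine h (hsep _ fun y => ?_)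
      rw [hφ]
      by_contra hy
      exact h' ⟨_, hmemN y, hy⟩
  let Ω : Set (Pt (k := K) A K) := {y | ∃ a ∈ S₁, ∃ b ∈ S₂, a * b = y}
  obtain ⟨a₀, ha₀, ha₀1⟩ := (hE 1).1 ⟨1, one_mem _, 1, one_mem _, _root_.mul_one 1⟩
  -- a function on the kernel invariant under `S₂` on the right
  let W : Submodule K A :=
    { carrier := {f | ∀ y ∈ N, y ∉ Ω → y.ofConv f = 0}
      add_mem' := fun {f g} hf hg y h1 h2 => by rw [map_add, hf y h1 h2, hg y h1 h2, add_zero]
      zero_mem' := fun y _ _ => map_zero _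
      smul_mem' := fun c f hf y h1 h2 => by rw [map_smul, hf y h1 h2, smul_zero] }
  have ha₀W : a₀ ∈ W := fun y _ hy => by
    by_contra h
    exact hy ((hE y).2 ⟨a₀, ha₀, h⟩)
  obtain ⟨v, hvW, hvN, hvfix⟩ := exists_fixed_mod J hU N (N ⊓ S₂ : Subgroup _) (fun s hs => hNJ s hs.1) W
    (fun s hs f hf y hy hyΩ => by
      rw [apply_Rt]
      refine hf _ (mul_mem hy hs.1) fun ⟨a, ha, b, hb, e⟩ => hyΩ ⟨a, ha, b * s⁻¹, mul_mem hb (inv_mem hs.2), ?_⟩
      rw [← mul_assoc, e, mul_inv_cancel_right])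
    ⟨a₀, ha₀W, 1, one_mem _, ha₀1⟩
  -- and invariant under `S₁` on the left
  let W' : Submodule K A :=
    { carrier := {f | (∀ y ∈ N, y ∉ Ω → y⁻¹.ofConv f = 0) ∧
        ∀ y ∈ N, ∀ s ∈ N ⊓ S₂, (y * s)⁻¹.ofConv f = y⁻¹.ofConv f}
      add_mem' := fun {f g} hf hg => ⟨fun y h1 h2 => by rw [map_add, hf.1 y h1 h2, hg.1 y h1 h2, add_zero],
        fun y h1 s h2 => by rw [map_add, map_add, hf.2 y h1 s h2, hg.2 y h1 s h2]⟩
      zero_mem' := ⟨fun y _ _ => map_zero _, fun y _ s _ => by rw [map_zero, map_zero]⟩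
      smul_mem' := fun c f hf => ⟨fun y h1 h2 => by rw [map_smul, hf.1 y h1 h2, smul_zero],
        fun y h1 s h2 => by rw [map_smul, map_smul, hf.2 y h1 s h2]⟩ }
  have hanti : ∀ (y : Pt (k := K) A K) (f : A), y⁻¹.ofConv (HopfAlgebra.antipode K f) = y.ofConv f := fun y f => by
    rw [← inv_apply, inv_inv]
  obtain ⟨f, hfW, ⟨y₀, hy₀, hy₀f⟩, hffix⟩ := exists_fixed_mod J hU N (S₁ : Set _) (fun s hs => hNJ s (hS₁N hs)) W'
    (fun s hs f hf => by
      refine ⟨fun y hy hyΩ => ?_, fun y hy t ht => ?_⟩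
      · rw [apply_Rt, show y⁻¹ * s = (s⁻¹ * y)⁻¹ by group]
        refine hf.1 _ (mul_mem (inv_mem (hS₁N hs)) hy) fun ⟨a, ha, b, hb, e⟩ =>
          hyΩ ⟨s * a, mul_mem hs ha, b, hb, ?_⟩
        rw [mul_assoc, e, mul_inv_cancel_left]
      · rw [apply_Rt, apply_Rt, show (y * t)⁻¹ * s = (s⁻¹ * y * t)⁻¹ by group,
          show y⁻¹ * s = (s⁻¹ * y)⁻¹ by group]
        exact hf.2 _ (mul_mem (inv_mem (hS₁N hs)) hy) t ht)
    ⟨HopfAlgebra.antipode K v, ⟨fun y hy hyΩ => by rw [hanti]; exact hvW y hy hyΩ,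
      fun y hy s hs => by rw [hanti, hanti]; exact hvfix y hy s hs⟩, by
      obtain ⟨y, hy, hyv⟩ := hvN
      exact ⟨y⁻¹, inv_mem hy, by rw [hanti]; exact hyv⟩⟩
  let g : A := HopfAlgebra.antipode K f
  have hg : ∀ y : Pt (k := K) A K, y.ofConv g = y⁻¹.ofConv f := fun y => (inv_apply y f).symm
  let c : K := (1 : Pt (k := K) A K).ofConv g
  have hconst : ∀ y ∈ N, y ∈ Ω → y.ofConv g = c := by
    rintro y hy ⟨a, ha, b, hb, rfl⟩
    have hbN : b ∈ N := (mul_mem_cancel_left (hS₁N ha)).1 hy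
    rw [hg, hfW.2 a (hS₁N ha) b ⟨hbN, hb⟩]
    show _ = (1 : Pt (k := K) A K).ofConv g
    rw [hg, inv_one]
    have := hffix 1 (one_mem _) a⁻¹ (inv_mem ha)
    rwa [_root_.one_mul] at this
  have hNΩ : ∀ y ∈ N, y ∈ Ω := by
    have hgN : NZ (N : Set (Pt (k := K) A K)) g :=
      ⟨y₀⁻¹, inv_mem hy₀, by rw [hg, inv_inv]; exact hy₀f⟩
    have hsub : ¬ NZ (N : Set (Pt (k := K) A K)) (g - algebraMap K A c) := by
      intro h
      have hp : φ ((g - algebraMap K A c) * g) ≠ 0 := by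
        rw [map_mul]; exact mul_ne_zero ((hNZ _).1 h) ((hNZ _).1 hgN)
      obtain ⟨y, hy, hy'⟩ := (hNZ _).2 hp
      by_cases hyΩ : y ∈ Ω
      · rw [map_mul, map_sub, AlgHom.commutes, hconst y hy hyΩ] at hy'
        simp at hy'
      · rw [map_mul, hg, hfW.1 y hy hyΩ, mul_zero] at hy'
        exact hy' rfl
    have hall : ∀ y ∈ N, y.ofConv g = c := fun y hy => by
      by_contra h
      refine hsub ⟨y, hy, ?_⟩
      rw [map_sub, AlgHom.commutes, Algebra.algebraMap_self, RingHom.id_apply, sub_ne_zero]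
      exact h
    obtain ⟨y₁, hy₁, hy₁g⟩ := hgN
    rw [hall y₁ hy₁] at hy₁g
    intro y hy
    by_contra hyΩ
    have h := hall y hy
    rw [hg, hfW.1 y hy hyΩ] at h
    exact hy₁g h.symm
  -- two translates of the product meet
  let b₂ : A := HopfAlgebra.antipode K (Rt x.ofConv a₀)
  have hb₂ : ∀ y : Pt (k := K) A K, y.ofConv b₂ = (y⁻¹ * x).ofConv a₀ := fun y => by
    rw [← apply_Rt y⁻¹ x]; exact (inv_apply y _).symm
  have hne₁ : a₀ ≠ 0 := fun h => ha₀1 (by rw [h, map_zero])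
  have hne₂ : b₂ ≠ 0 := fun h => ha₀1 (by
    have e := hb₂ x
    rw [h, map_zero, inv_mul_cancel] at e
    exact e.symm)
  obtain ⟨y, hy⟩ : ∃ y : Pt (k := K) A K, y.ofConv (a₀ * b₂) ≠ 0 := by
    by_contra! h
    exact mul_ne_zero hne₁ hne₂ (hsep _ h)
  rw [map_mul, mul_ne_zero_iff, hb₂] at hy
  obtain ⟨a, ha, b, hb, e⟩ := (hE y).2 ⟨a₀, ha₀, hy.1⟩
  obtain ⟨a', ha', b', hb', e'⟩ := (hE (y⁻¹ * x)).2 ⟨a₀, ha₀, hy.2⟩
  obtain ⟨a'', ha'', b'', hb'', e''⟩ := hNΩ (a * (b * a' * b⁻¹))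
    (mul_mem (hS₁N ha) ((MonoidHom.normal_ker _).conj_mem _ (hS₁N ha') b))
  refine ⟨a'', ha'', b'' * (b * b'), mul_mem hb'' (mul_mem hb hb'), ?_⟩
  rw [← mul_assoc, e'']
  calc a * (b * a' * b⁻¹) * (b * b') = (a * b) * (a' * b') := by group
    _ = x := by rw [e, e', mul_inv_cancel_left]

end Groth.L20.SolvCell
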